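import Groth.Agent.DvrDom.Criterion
import Groth.Agent.Nagata.Reduced
import Groth.Agent.Nagata.Japanese
import Groth.Agent.Nagata.Local

/-!
A discrete valuation ring which dominates a Nagata local domain and is essentially of finite type over it.
-/

set_option autoImplicit false
set_option linter.style.haveILetI false

universe u

open IsLocalRing

namespace Groth.Agent.ValEssFt

open Groth.Agent.DvrDom

variable {L : Type u} [Field L]

/-- Every element of the valuation ring is a fraction with denominator of value one in the ring generated by `s`. -/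
def Gen (R : ValuationSubring L) (s : Set L) : Prop :=
  ∀ z ∈ R, ∃ t ∈ Subring.closure s, R.valuation t = 1 ∧ z * t ∈ Subring.closure s

/-- The fractions with denominator of value one. -/
def genSubring (R : ValuationSubring L) (s : Set L) : Subring L where
  carrier := {z | ∃ t ∈ Subring.closure s, R.valuation t = 1 ∧ z * t ∈ Subring.closure s}
  mul_mem' := by
    rintro a b ⟨t, ht, htv, hta⟩ ⟨t', ht', htv', htb⟩
    exact ⟨t * t', mul_mem ht ht', by rw [map_mul, htv, htv', mul_one],
      by rw [mul_mul_mul_comm]; exact mul_mem hta htb⟩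
  one_mem' := ⟨1, one_mem _, map_one _, by rw [mul_one]; exact one_mem _⟩
  add_mem' := by
    rintro a b ⟨t, ht, htv, hta⟩ ⟨t', ht', htv', htb⟩
    refine ⟨t * t', mul_mem ht ht', by rw [map_mul, htv, htv', mul_one], ?_⟩
    rw [show (a + b) * (t * t') = a * t * t' + b * t' * t by ring]
    exact add_mem (mul_mem hta ht') (mul_mem htb ht)
  zero_mem' := ⟨1, one_mem _, map_one _, by rw [mul_one]; exact zero_mem _⟩
  neg_mem' := by
    rintro a ⟨t, ht, htv, hta⟩
    exact ⟨t, ht, htv, by rw [neg_mul]; exact neg_mem hta⟩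

theorem closure_le_gen (R : ValuationSubring L) (s : Set L) : Subring.closure s ≤ genSubring R s :=
  fun z hz ↦ ⟨1, one_mem _, map_one _, by rwa [mul_one]⟩

theorem mem_gen_of_mul (R : ValuationSubring L) (s : Set L) {z t : L} (ht : t ∈ genSubring R s)
    (hv : R.valuation t = 1) (h : z * t ∈ genSubring R s) : z ∈ genSubring R s := by
  obtain ⟨a, ha, hav, hb⟩ := h
  obtain ⟨c, hc, hcv, hd⟩ := ht
  refine ⟨t * c * a, mul_mem hd ha, by rw [map_mul, map_mul, hv, hcv, hav, one_mul, one_mul], ?_⟩
  rw [show z * (t * c * a) = z * t * a * c by ring]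
  exact mul_mem hb hc

theorem Gen.trans {R : ValuationSubring L} {s s' : Set L} (h : Gen R s) (hs : s ⊆ genSubring R s') :
    Gen R s' := fun z hz ↦ by
  obtain ⟨t, ht, htv, hzt⟩ := h z hz
  have hle : Subring.closure s ≤ genSubring R s' := Subring.closure_le.mpr hs
  exact mem_gen_of_mul R s' (hle ht) htv (hle hzt)

/-- Valuation rings with such generators are essentially of finite type. -/
theorem essFiniteType_of_gen {A : Type u} [CommRing A] (φ : A →+* L) (R : ValuationSubring L)
    (hφ : ∀ a, φ a ∈ R) {σ : Set L} (hσ : σ.Finite) (hσR : σ ⊆ (R : Set L)) (h : Gen R (Set.range φ ∪ σ)) :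
    (φ.codRestrict R.toSubring hφ).EssFiniteType := by
  classical
  letI : Algebra A R := (φ.codRestrict R.toSubring hφ).toAlgebra
  show Algebra.EssFiniteType A R
  refine (Algebra.essFiniteType_iff A R).mpr ⟨(hσ.preimage Subtype.val_injective.injOn (f := ((↑) : R → L))).toFinset, fun z ↦ ?_⟩
  obtain ⟨t, ht, htv, hzt⟩ := h z z.2
  have key : ∀ y ∈ Subring.closure (Set.range φ ∪ σ), ∃ y' ∈ Algebra.adjoin A
      ((hσ.preimage Subtype.val_injective.injOn (f := ((↑) : R → L))).toFinset : Set R), (y' : L) = y := by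
    intro y hy
    induction hy using Subring.closure_induction with
    | mem y hy =>
      rcases hy with ⟨a, rfl⟩ | hy
      · exact ⟨algebraMap A R a, Subalgebra.algebraMap_mem _ _, rfl⟩
      · exact ⟨⟨y, hσR hy⟩, Algebra.subset_adjoin (by simpa using hy), rfl⟩
    | zero => exact ⟨0, zero_mem _, rfl⟩
    | one => exact ⟨1, one_mem _, rfl⟩
    | add a b _ _ ha hb =>
      obtain ⟨a', ha', rfl⟩ := ha
      obtain ⟨b', hb', rfl⟩ := hb
      exact ⟨a' + b', add_mem ha' hb', rfl⟩
    | neg a _ ha =>
      obtain ⟨a', ha', rfl⟩ := ha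
      exact ⟨-a', neg_mem ha', rfl⟩
    | mul a b _ _ ha hb =>
      obtain ⟨a', ha', rfl⟩ := ha
      obtain ⟨b', hb', rfl⟩ := hb
      exact ⟨a' * b', mul_mem ha' hb', rfl⟩
  obtain ⟨t', ht', rfl⟩ := key t ht
  obtain ⟨w, hw, hwe⟩ := key _ hzt
  exact ⟨t', ht', (R.valuation_eq_one_iff t').mpr htv, (Subtype.ext hwe : w = z * t') ▸ hw⟩

variable (A : Type u) [CommRing A] [IsDomain A] [IsLocalRing A] [IsNoetherianRing A]

omit [IsDomain A] [IsLocalRing A] in
/-- The valuation ring of a prime of height at most one is generated by finitely many elements. -/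
theorem exists_gen {K : Type u} [Field K] [Algebra A K] (hN : CAlg.IsNagata A) (B : Subalgebra A K)
    (T : Set K) (hT : T.Finite) (hB : B = Algebra.adjoin A T) (P : Ideal B.toSubring) [P.IsPrime]
    [IsFractionRing (LocalSubring.ofPrime B.toSubring P).toSubring K]
    [IsNoetherianRing (LocalSubring.ofPrime B.toSubring P).toSubring]
    [Ring.KrullDimLE 1 (LocalSubring.ofPrime B.toSubring P).toSubring]
    (V : ValuationSubring K) (hCV : (LocalSubring.ofPrime B.toSubring P).toSubring ≤ V.toSubring)
    (hVloc : IsLocalHom (Subring.inclusion hCV)) :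
    ∃ σ : Set K, σ.Finite ∧ σ ⊆ (V : Set K) ∧ Gen V (Set.range (algebraMap A K) ∪ σ) := by
  classical
  set C := LocalSubring.ofPrime B.toSubring P with hC
  have hBC : B.toSubring ≤ C.toSubring := LocalSubring.le_ofPrime _ _
  haveI : Algebra.FiniteType A B := B.fg_iff_finiteType.mp (hB ▸ Subalgebra.fg_def.mpr ⟨T, hT, rfl⟩)
  have hBN : CAlg.IsNagata B.toSubring := Nagata.isNagata_of_finiteType (S := B) hN
  have hCN : CAlg.IsNagata C.toSubring := Nagata.isNagata_of_isLocalization hBN P.primeCompl _
  haveI : Algebra.EssFiniteType C.toSubring K :=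
    Algebra.EssFiniteType.of_isLocalization K (nonZeroDivisors C.toSubring)
  haveI hfin := Nagata.finite_closure_reduced (W := K) hCN
  let N := integralClosure C.toSubring K
  obtain ⟨g, hg⟩ := (hfin : Module.Finite C.toSubring N).fg_top
  have hNV : ∀ n : N, (n : K) ∈ V := by
    intro n
    letI : Algebra C.toSubring V := (Subring.inclusion hCV).toAlgebra
    haveI : IsScalarTower C.toSubring V K := IsScalarTower.of_algebraMap_eq fun _ ↦ rfl
    obtain ⟨y, hy⟩ := IsIntegrallyClosed.isIntegral_iff.mp (n.2.tower_top : IsIntegral V (n : K))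
    exact hy ▸ y.2
  let jN : N →+* V := N.val.toRingHom.codRestrict V.toSubring hNV
  let Q : Ideal N := (maximalIdeal V).comap jN
  haveI : Algebra.IsIntegral C.toSubring N := inferInstance
  haveI : IsNoetherianRing N := isNoetherian_of_tower C.toSubring (isNoetherian_of_isNoetherianRing_of_finite _ _)
  haveI : IsIntegrallyClosed N :=
    haveI : IsIntegrallyClosedIn N K := inferInstance
    haveI : IsFractionRing N K := IsFractionRing.of_field _ K fun z ↦ by
      obtain ⟨p, q, _, rfl⟩ := IsFractionRing.div_surjective (A := C.toSubring) z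
      exact ⟨algebraMap _ N p, algebraMap _ N q, rfl⟩
    (isIntegrallyClosed_iff_isIntegrallyClosedIn (R := N) K).mpr inferInstance
  haveI : Ring.DimensionLEOne N := ⟨fun {p} hp0 hp ↦ by
    haveI := hp
    refine Ideal.isMaximal_of_isIntegral_of_isMaximal_comap (R := C.toSubring) p ?_
    refine ((Ring.krullDimLE_one_iff_of_noZeroDivisors.mp ‹_›) _ ?_ inferInstance)
    exact mt Ideal.eq_bot_of_comap_eq_bot hp0⟩
  haveI : IsDedekindDomain N := { }
  have hCm : ∀ c : C.toSubring, c ∈ maximalIdeal C.toSubring → algebraMap C.toSubring N c ∈ Q := by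
    intro c hc
    exact (mem_maximalIdeal _).mpr fun hu ↦ (mem_maximalIdeal c).mp hc
      (hVloc.map_nonunit c hu)
  have hsub : ∀ z ∈ V, ∃ n q : N, q ∉ Q ∧ z * (q : K) = n := by
    intro z hz
    by_cases hQ : Q = ⊥
    · obtain ⟨p, q, hq, rfl⟩ := IsFractionRing.div_surjective (A := C.toSubring) z
      refine ⟨algebraMap _ N p, algebraMap _ N q, fun h ↦ ?_, ?_⟩
      · rw [hQ, Ideal.mem_bot] at h
        exact nonZeroDivisors.ne_zero hq (Subtype.ext (congrArg Subtype.val h :))
      · exact div_mul_cancel₀ _ (fun h ↦ nonZeroDivisors.ne_zero hq (Subtype.ext h))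
    · haveI : IsDiscreteValuationRing (Localization.AtPrime Q) :=
        IsLocalization.AtPrime.isDiscreteValuationRing_of_dedekind_domain N hQ _
      haveI : IsFractionRing N K := IsFractionRing.of_field _ K fun z ↦ by
        obtain ⟨p, q, _, rfl⟩ := IsFractionRing.div_surjective (A := C.toSubring) z
        exact ⟨algebraMap _ N p, algebraMap _ N q, rfl⟩
      haveI hd : IsDomain (Localization.AtPrime Q) := inferInstance
      have hv : ValuationRing (Localization.AtPrime Q) := inferInstance
      obtain ⟨p, q, hq, rfl⟩ := IsFractionRing.div_surjective (A := N) z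
      have hqN : (q : K) ≠ 0 := fun h ↦ nonZeroDivisors.ne_zero hq (Subtype.ext h)
      rcases hv.toPreValuationRing.cond' (algebraMap N (Localization.AtPrime Q) q) (algebraMap N _ p) with ⟨c, hc | hc⟩
      · obtain ⟨⟨n, m⟩, hm⟩ := IsLocalization.surj Q.primeCompl c
        have : q * n = p * m.1 := IsLocalization.injective (Localization.AtPrime Q)
          Q.primeCompl_le_nonZeroDivisors (by rw [map_mul, map_mul, ← hc, ← hm, mul_assoc])
        refine ⟨n, m, m.2, ?_⟩
        show (p : K) / (q : K) * _ = _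
        rw [div_mul_eq_mul_div, div_eq_iff hqN, mul_comm (n : K)]
        exact (congrArg Subtype.val this).symm
      · obtain ⟨⟨n, m⟩, hm⟩ := IsLocalization.surj Q.primeCompl c
        have : p * n = q * m.1 := IsLocalization.injective (Localization.AtPrime Q)
          Q.primeCompl_le_nonZeroDivisors (by rw [map_mul, map_mul, ← hc, ← hm, mul_assoc])
        have h1 : (p : K) * n = q * (m.1 : K) := congrArg Subtype.val this
        have hn0 : (n : K) ≠ 0 := fun h ↦ m.2 (by
          rw [h, mul_zero, eq_comm, mul_eq_zero] at h1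
          rw [show m.1 = 0 from Subtype.ext (h1.resolve_left hqN)]
          exact Q.zero_mem)
        have hzn : (algebraMap N K p / algebraMap N K q) * (n : K) = (m.1 : K) := by
          show (p : K) / (q : K) * _ = _
          rw [div_mul_eq_mul_div, div_eq_iff hqN]
          exact h1.trans (mul_comm _ _)
        refine ⟨m.1, n, fun hn ↦ m.2 ?_, hzn⟩
        show jN m.1 ∈ maximalIdeal V
        have he : jN m.1 = ⟨_, hz⟩ * jN n := Subtype.ext hzn.symm
        rw [he]
        exact Ideal.mul_mem_left _ _ hn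
  refine ⟨T ∪ ((↑) '' (g : Set N)), hT.union (g.finite_toSet.image _), ?_, fun z hz ↦ ?_⟩
  · rintro z (hz | ⟨n, -, rfl⟩)
    · exact hCV (hBC (hB ▸ Algebra.subset_adjoin hz))
    · exact hNV n
  set s := Set.range (algebraMap A K) ∪ (T ∪ ((↑) '' (g : Set N)))
  have hBs : B.toSubring ≤ genSubring V s := by
    refine le_trans (fun z hz ↦ ?_) (closure_le_gen _ _)
    rw [Subalgebra.mem_toSubring, hB] at hz
    induction hz using Algebra.adjoin_induction with
    | mem z hz => exact Subring.subset_closure (Or.inr (Or.inl hz))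
    | algebraMap r => exact Subring.subset_closure (Or.inl ⟨r, rfl⟩)
    | add z w _ _ hz hw => exact add_mem hz hw
    | mul z w _ _ hz hw => exact mul_mem hz hw
  have hv : ∀ d : C.toSubring, IsUnit d → V.valuation (d : K) = 1 := fun d hd ↦
    (V.valuation_eq_one_iff ⟨_, hCV d.2⟩).mp (hd.map (Subring.inclusion hCV))
  have hCs : C.toSubring ≤ genSubring V s := fun z hz ↦ by
    obtain ⟨⟨a, q, hq⟩, he⟩ := IsLocalization.surj P.primeCompl (⟨z, hz⟩ : C.toSubring)
    exact mem_gen_of_mul _ _ (hBs q.2) (hv _ (IsLocalization.map_units C.toSubring (⟨q, hq⟩ : P.primeCompl)))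
      ((show z * (q : K) = (a : K) from congrArg Subtype.val he).symm ▸ hBs a.2)
  have hNs : ∀ n : N, (n : K) ∈ genSubring V s := by
    intro n
    have hn : n ∈ Submodule.span C.toSubring (g : Set N) := hg ▸ trivial
    induction hn using Submodule.span_induction with
    | mem y hy => exact closure_le_gen _ _ (Subring.subset_closure (Or.inr (Or.inr ⟨y, hy, rfl⟩)))
    | zero => exact zero_mem _
    | add a b _ _ ha hb => exact add_mem ha hb
    | smul r a _ ha => exact mul_mem (hCs r.2) ha
  obtain ⟨n, q, hq, he⟩ := hsub z hz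
  refine mem_gen_of_mul _ _ (hNs q) ?_ (he ▸ hNs n)
  exact (V.valuation_eq_one_iff (jN q)).mp (by simpa [Q] using hq)

/-- **EGA II 7.1.7**, birational case. -/
theorem exists_dvr_dominating' (hN : CAlg.IsNagata A) (hA : ¬ IsField A) (K : Type u) [Field K] [Algebra A K]
    [IsFractionRing A K] :
    ∃ R : ValuationSubring K, IsDiscreteValuationRing R ∧ (∀ a, algebraMap A K a ∈ R) ∧
      (∀ a ∈ maximalIdeal A, R.valuation (algebraMap A K a) < 1) ∧
      ∃ σ : Set K, σ.Finite ∧ σ ⊆ (R : Set K) ∧ Gen R (Set.range (algebraMap A K) ∪ σ) := by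
  classical
  obtain ⟨V₀, hV₀, hloc⟩ := IsLocalRing.exists_factor_valuationRing (algebraMap A K)
  have hlt₀ : ∀ a ∈ maximalIdeal A, V₀.valuation (algebraMap A K a) < 1 := by
    intro a ha
    refine (V₀.valuation_lt_one_iff ⟨_, hV₀ a⟩).mp ?_
    exact fun hu ↦ (mem_maximalIdeal a).mp ha (hloc.map_nonunit a hu)
  obtain ⟨s, hs⟩ := (IsNoetherian.noetherian (maximalIdeal A) : (maximalIdeal A).FG)
  have hsne : s.Nonempty := by
    rw [Finset.nonempty_iff_ne_empty]
    rintro rfl
    simp at hs
    exact hA (isField_iff_maximalIdeal_eq.mpr hs.symm)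
  obtain ⟨x, hxs, hxmax⟩ := s.exists_max_image (fun y ↦ V₀.valuation (algebraMap A K y)) hsne
  have hsm : ∀ y ∈ s, y ∈ maximalIdeal A := fun y hy ↦ hs ▸ Ideal.subset_span hy
  have hinj := IsFractionRing.injective A K
  have hx0 : algebraMap A K x ≠ 0 := by
    intro h
    obtain ⟨a, ha, ha0⟩ := algebraMap_ne_zero_exists A hA
    refine ha0 ?_
    have : Ideal.span (s : Set A) ≤ ⊥ := Ideal.span_le.mpr fun y hy ↦ by
      have := hxmax y hy
      rw [h, map_zero, le_zero_iff, Valuation.zero_iff, map_eq_zero_iff _ hinj] at this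
      simp [this]
    exact this ((show Ideal.span (s : Set A) = maximalIdeal A from hs) ▸ ha)
  let T : Set K := (fun y ↦ algebraMap A K y / algebraMap A K x) '' s
  let B : Subalgebra A K := Algebra.adjoin A T
  have hBV : ∀ b ∈ B, b ∈ V₀ := by
    intro b hb
    induction hb using Algebra.adjoin_induction with
    | mem z hz =>
      obtain ⟨y, hy, rfl⟩ := hz
      rw [← V₀.valuation_le_one_iff, map_div₀]
      exact div_le_one_of_le₀ (hxmax y hy) zero_le
    | algebraMap r => exact hV₀ r
    | add z w _ _ hz hw => exact add_mem hz hw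
    | mul z w _ _ hz hw => exact mul_mem hz hw
  have hfg : B.FG := Subalgebra.fg_def.mpr ⟨T, (s.finite_toSet.image _), rfl⟩
  have : IsNoetherianRing B.toSubring := isNoetherianRing_of_fg hfg
  let xB : B.toSubring := ⟨algebraMap A K x, B.algebraMap_mem x⟩
  have hxB : Ideal.span {xB} ≠ ⊤ := by
    rw [Ne, Ideal.span_singleton_eq_top]
    intro hu
    obtain ⟨w, hw⟩ := isUnit_iff_exists_inv.mp hu
    have h1 : V₀.valuation (algebraMap A K x * (w : K)) = 1 := by
      rw [show algebraMap A K x * (w : K) = 1 from congrArg Subtype.val hw, map_one]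
    rw [map_mul] at h1
    exact (lt_of_le_of_lt (mul_le_of_le_one_right' ((V₀.valuation_le_one_iff _).mpr
      (hBV _ w.2))) (hlt₀ x (hsm x hxs))).ne h1
  obtain ⟨P, hP⟩ := Ideal.nonempty_minimalPrimes hxB
  have hPp : P.IsPrime := hP.1.1
  have hPh : P.height ≤ 1 := Ideal.height_le_one_of_isPrincipal_of_mem_minimalPrimes _ P hP
  let C := LocalSubring.ofPrime B.toSubring P
  have hBC : B.toSubring ≤ C.toSubring := LocalSubring.le_ofPrime _ _
  have : IsNoetherianRing C.toSubring := IsLocalization.isNoetherianRing P.primeCompl _ inferInstance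
  have : Ring.KrullDimLE 1 C.toSubring := by
    rw [Ring.KrullDimLE, Order.krullDimLE_iff]
    change ringKrullDim C.toSubring ≤ _
    rw [IsLocalization.AtPrime.ringKrullDim_eq_height P]
    exact_mod_cast hPh
  have hAC : ∀ a, algebraMap A K a ∈ C.toSubring := fun a ↦ hBC (B.algebraMap_mem a)
  have : IsFractionRing C.toSubring K := by
    refine IsFractionRing.of_field _ K fun z ↦ ?_
    obtain ⟨p, q, _, rfl⟩ := IsFractionRing.div_surjective (A := A) z
    exact ⟨⟨_, hAC p⟩, ⟨_, hAC q⟩, rfl⟩
  obtain ⟨V, hCV, hVloc⟩ := C.exists_le_valuationSubring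
  have hxP : xB ∈ P := hP.1.2 (Ideal.mem_span_singleton_self _)
  have hltP : ∀ b : B.toSubring, b ∈ P → V.valuation (b : K) < 1 := by
    intro b hb
    have h1 : algebraMap B.toSubring C.toSubring b ∈ maximalIdeal C.toSubring :=
      (IsLocalization.AtPrime.to_map_mem_maximal_iff C.toSubring P b).mpr hb
    refine (V.valuation_lt_one_iff ⟨(b : K), hCV (hBC b.2)⟩).mp ?_
    exact fun hu ↦ (mem_maximalIdeal _).mp h1
      (hVloc.map_nonunit (algebraMap B.toSubring C.toSubring b) hu)
  have hx' : V.valuation (algebraMap A K x) < 1 := hltP xB hxP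
  refine ⟨V, isDiscreteValuationRing_of_krullDimLE_one C.toSubring V (fun c ↦ hCV c.2)
      (a := ⟨_, hAC x⟩) (fun h ↦ hx0 (congrArg Subtype.val h)) hx', fun a ↦ hCV (hAC a), ?_,
      exists_gen A hN B T (s.finite_toSet.image _) rfl P V hCV hVloc⟩
  intro a ha
  rw [← hs] at ha
  induction ha using Submodule.span_induction with
  | mem y hy =>
    have hmem : algebraMap A K y / algebraMap A K x ∈ B := Algebra.subset_adjoin ⟨y, hy, rfl⟩
    have := hltP (⟨_, hmem⟩ * xB) (P.mul_mem_left _ hxP)
    have e : ((⟨_, hmem⟩ * xB : B.toSubring) : K) = algebraMap A K y := div_mul_cancel₀ _ hx0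
    rwa [e] at this
  | zero => simp
  | add y z _ _ hy hz =>
    rw [map_add]
    exact (V.valuation.map_add _ _).trans_lt (max_lt hy hz)
  | smul r y _ hy =>
    rw [smul_eq_mul, map_mul, map_mul]
    exact (mul_le_of_le_one_left' ((V.valuation_le_one_iff _).mpr (hCV (hAC r)))).trans_lt hy

/-- **EGA II 7.1.7**: a Noetherian local domain which is not a field is dominated by a discrete
valuation ring of any field `L ⊇ A` finitely generated as a field over `A`. -/
theorem exists_dvr_dominating_of_fg' (hN : CAlg.IsNagata A) (hA : ¬ IsField A) (L : Type u) [Field L] [Algebra A L]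
    [FaithfulSMul A L] (s : Set L) (hfin : s.Finite)
    (hs : Subfield.closure (Set.range (algebraMap A L) ∪ s) = ⊤) :
    ∃ R : ValuationSubring L, IsDiscreteValuationRing R ∧ (∀ a, algebraMap A L a ∈ R) ∧
      (∀ a ∈ maximalIdeal A, R.valuation (algebraMap A L a) < 1) ∧
      ∃ σ : Set L, σ.Finite ∧ σ ⊆ (R : Set L) ∧ Gen R (Set.range (algebraMap A L) ∪ σ) := by
  classical
  -- a maximal algebraically independent subset of `s`
  obtain ⟨t, ⟨hts, ht⟩, hmax⟩ :=
    Set.Finite.exists_maximal (s := {t : Set L | t ⊆ s ∧ AlgebraicIndepOn A id t})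
      (hfin.finite_subsets.subset fun t ht ↦ ht.1)
      ⟨∅, Set.empty_subset _, algebraicIndependent_empty_type_iff.mpr
        (FaithfulSMul.algebraMap_injective A L)⟩
  let S : Subalgebra A L := Algebra.adjoin A t
  have hSfg : S.FG := Subalgebra.fg_def.mpr ⟨t, hfin.subset hts, rfl⟩
  have halg : ∀ z ∈ s, IsAlgebraic S z := by
    intro z hz
    by_cases hzt : z ∈ t
    · exact isAlgebraic_algebraMap (⟨z, Algebra.subset_adjoin hzt⟩ : S)
    · by_contra hcon
      have hins : AlgebraicIndepOn A id (insert z t) := by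
        refine (AlgebraicIndepOn.insert_iff hzt).mpr ⟨ht, ?_⟩
        have key : ∀ w : Set L, w = t → Transcendental (Algebra.adjoin A w) z := by
          rintro w rfl
          exact hcon
        exact key _ (Set.image_id t)
      exact hzt (hmax ⟨Set.insert_subset hz hts, hins⟩ (Set.subset_insert z t)
        (Set.mem_insert z t))
  -- the prime `𝔪 + (t)` of `A[t]`
  have ht' : AlgebraicIndependent A ((↑) : t → L) := ht
  let e : MvPolynomial t A ≃ₐ[A] S :=
    ht'.aevalEquiv.trans (Subalgebra.equivOfEq _ _ (by rw [Subtype.range_coe]))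
  let φ : S →+* ResidueField A :=
    ((residue A).comp MvPolynomial.constantCoeff).comp e.symm.toRingEquiv.toRingHom
  have hφA : ∀ a, φ (algebraMap A S a) = residue A a := fun a ↦ by simp [φ]
  let P : Ideal S.toSubring := RingHom.ker φ
  have : P.IsPrime := RingHom.ker_isPrime φ
  have : IsNoetherianRing S.toSubring := isNoetherianRing_of_fg hSfg
  let C := LocalSubring.ofPrime S.toSubring P
  have : IsNoetherianRing C.toSubring := IsLocalization.isNoetherianRing P.primeCompl _ inferInstance
  have hSC : S.toSubring ≤ C.toSubring := LocalSubring.le_ofPrime _ _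
  have hAC : ∀ a, algebraMap A L a ∈ C.toSubring := fun a ↦ hSC (S.algebraMap_mem a)
  have hACm : ∀ a ∈ maximalIdeal A, (⟨_, hAC a⟩ : C.toSubring) ∈ maximalIdeal C.toSubring := by
    intro a ha
    exact (IsLocalization.AtPrime.to_map_mem_maximal_iff C.toSubring P
      ⟨_, S.algebraMap_mem a⟩).mpr
      (RingHom.mem_ker.mpr ((hφA a).trans ((residue_eq_zero_iff a).mpr ha)))
  -- integral multiples of the generators
  have hint : ∀ z ∈ s, ∃ c : C.toSubring, c ≠ 0 ∧ IsIntegral C.toSubring ((c : L) * z) := by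
    intro z hz
    obtain ⟨y, hy0, hy⟩ := (halg z hz).exists_integral_multiple
    let ι : S →+* C.toSubring := Subring.inclusion hSC
    refine ⟨ι y, fun h ↦ hy0 (Subtype.ext (congrArg Subtype.val h :)), ?_⟩
    let alg : Algebra S C.toSubring := ι.toAlgebra
    have : IsScalarTower S C.toSubring L := .of_algebraMap_eq fun _ ↦ rfl
    exact hy.tower_top
  choose c hc0 hcint using hint
  let W : Set L := Set.range fun z : s ↦ (c z.1 z.2 : L) * z.1
  let A' : Subalgebra C.toSubring L := Algebra.adjoin C.toSubring W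
  have := hfin.to_subtype
  have hA'fin : Module.Finite C.toSubring A' :=
    Module.Finite.iff_fg.mpr (fg_adjoin_of_finite (Set.finite_range _)
      (by rintro _ ⟨z, rfl⟩; exact hcint _ _))
  have : Algebra.IsIntegral C.toSubring A' := Algebra.IsIntegral.of_finite _ _
  obtain ⟨Q, hQmax, hQ⟩ := Ideal.exists_ideal_over_maximal_of_isIntegral (S := A')
    (maximalIdeal C.toSubring) (le_of_eq_of_le
      ((RingHom.injective_iff_ker_eq_bot _).mp (FaithfulSMul.algebraMap_injective _ _)) bot_le)
  have : IsNoetherianRing A'.toSubring :=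
    show IsNoetherianRing A' from isNoetherianRing_of_fg (Subalgebra.fg_def.mpr ⟨W, Set.finite_range _, rfl⟩)
  let Q' : Ideal A'.toSubring := Q
  have : Q'.IsPrime := hQmax.isPrime
  let D := LocalSubring.ofPrime A'.toSubring Q'
  have : IsNoetherianRing D.toSubring := IsLocalization.isNoetherianRing Q'.primeCompl _ inferInstance
  have hA'D : A'.toSubring ≤ D.toSubring := LocalSubring.le_ofPrime _ _
  have hCD : ∀ a : C.toSubring, (a : L) ∈ D.toSubring := fun a ↦ hA'D (A'.algebraMap_mem a)
  have hDm : ∀ a ∈ maximalIdeal A, (⟨_, hCD ⟨_, hAC a⟩⟩ : D.toSubring) ∈ maximalIdeal D.toSubring := by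
    intro a ha
    refine (IsLocalization.AtPrime.to_map_mem_maximal_iff D.toSubring Q'
      ⟨_, A'.algebraMap_mem ⟨_, hAC a⟩⟩).mpr ?_
    have := hACm a ha
    rw [← hQ] at this
    exact this
  have hD : ¬ IsField D.toSubring := by
    obtain ⟨a, ha, ha0⟩ := algebraMap_ne_zero_exists A hA
    intro hf
    have := hDm a ha
    rw [isField_iff_maximalIdeal_eq.mp hf, Ideal.mem_bot] at this
    exact ha0 ((map_eq_zero_iff _ (FaithfulSMul.algebraMap_injective A L)).mp
      (congrArg Subtype.val this))
  have : IsFractionRing D.toSubring L := by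
    refine isFractionRing_of_closure (top_le_iff.mp (hs ▸ Subfield.closure_le.mpr ?_))
    rintro z (⟨a, rfl⟩ | hz)
    · exact Subfield.subset_closure ⟨⟨_, hCD ⟨_, hAC a⟩⟩, rfl⟩
    · have h1 : (c z hz : L) * z ∈ Subfield.closure (Set.range (algebraMap D.toSubring L)) :=
        Subfield.subset_closure ⟨⟨_, hA'D (Algebra.subset_adjoin ⟨⟨z, hz⟩, rfl⟩)⟩, rfl⟩
      have h2 : (c z hz : L) ∈ Subfield.closure (Set.range (algebraMap D.toSubring L)) :=
        Subfield.subset_closure ⟨⟨_, hCD (c z hz)⟩, rfl⟩
      have h3 : (c z hz : L) ≠ 0 := fun h ↦ hc0 z hz (Subtype.ext h)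
      simpa [h3] using mul_mem (inv_mem h2) h1
  have hSN : CAlg.IsNagata S.toSubring :=
    haveI : Algebra.FiniteType A S := S.fg_iff_finiteType.mp hSfg
    Nagata.isNagata_of_finiteType (S := S) hN
  have hCN : CAlg.IsNagata C.toSubring := Nagata.isNagata_of_isLocalization hSN P.primeCompl _
  have hA'N : CAlg.IsNagata A'.toSubring := Nagata.isNagata_of_finiteType (S := A') hCN
  have hDN : CAlg.IsNagata D.toSubring := Nagata.isNagata_of_isLocalization hA'N Q'.primeCompl _
  obtain ⟨R, hR, hDR, hRm, σ, hσ, hσR, hgen⟩ := exists_dvr_dominating' D.toSubring hDN hD L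
  refine ⟨R, hR, fun a ↦ hDR ⟨_, hCD ⟨_, hAC a⟩⟩, fun a ha ↦ hRm _ (hDm a ha), t ∪ W ∪ σ,
    ((hfin.subset hts).union (Set.finite_range _)).union hσ, ?_, hgen.trans ?_⟩
  · rintro z ((hz | ⟨w, rfl⟩) | hz)
    · exact hDR ⟨_, hCD ⟨_, hSC (Algebra.subset_adjoin hz)⟩⟩
    · exact hDR ⟨_, hA'D (Algebra.subset_adjoin ⟨w, rfl⟩)⟩
    · exact hσR hz
  set G := genSubring R (Set.range (algebraMap A L) ∪ (t ∪ W ∪ σ)) with hG
  have hS : (S : Set L) ⊆ Subring.closure (Set.range (algebraMap A L) ∪ (t ∪ W ∪ σ)) := by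
    intro z hz
    induction hz using Algebra.adjoin_induction with
    | mem z hz => exact Subring.subset_closure (Or.inr (Or.inl (Or.inl hz)))
    | algebraMap r => exact Subring.subset_closure (Or.inl ⟨r, rfl⟩)
    | add z w _ _ hz hw => exact add_mem hz hw
    | mul z w _ _ hz hw => exact mul_mem hz hw
  have hSG : S.toSubring ≤ G := fun z hz ↦ closure_le_gen _ _ (hS hz)
  have hv : ∀ d : D.toSubring, IsUnit d → R.valuation (d : L) = 1 := fun d hd ↦
    (R.valuation_eq_one_iff ⟨_, hDR d⟩).mp (hd.map (D.toSubring.subtype.codRestrict R.toSubring hDR))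
  have hCG : C.toSubring ≤ G := fun z hz ↦ by
    obtain ⟨⟨a, q, hq⟩, he⟩ := IsLocalization.surj P.primeCompl (⟨z, hz⟩ : C.toSubring)
    refine mem_gen_of_mul _ _ (hSG q.2) ?_ ((show z * (q : L) = (a : L) from congrArg Subtype.val he).symm ▸ hSG a.2)
    let ι : C.toSubring →+* D.toSubring := C.toSubring.subtype.codRestrict D.toSubring hCD
    exact hv _ (((IsLocalization.map_units C.toSubring (⟨q, hq⟩ : P.primeCompl))).map ι)
  have hA'G : A'.toSubring ≤ G := by
    intro z hz
    induction hz using Algebra.adjoin_induction with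
    | mem z hz => exact closure_le_gen _ _ (Subring.subset_closure (Or.inr (Or.inl (Or.inr hz))))
    | algebraMap r => exact hCG r.2
    | add z w _ _ hz hw => exact add_mem hz hw
    | mul z w _ _ hz hw => exact mul_mem hz hw
  rintro z (⟨⟨z, hz⟩, rfl⟩ | hz)
  · obtain ⟨⟨a, q, hq⟩, he⟩ := IsLocalization.surj Q'.primeCompl (⟨z, hz⟩ : D.toSubring)
    exact mem_gen_of_mul _ _ (hA'G q.2) (hv _ (IsLocalization.map_units D.toSubring (⟨q, hq⟩ : Q'.primeCompl)))
      ((show z * (q : L) = (a : L) from congrArg Subtype.val he).symm ▸ hA'G a.2)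
  · exact closure_le_gen _ _ (Subring.subset_closure (Or.inr (Or.inr hz)))

omit [IsDomain A] in
/-- A Noetherian local ring mapping to a field essentially of finite type, with the maximal ideal not
in the kernel, is dominated by a discrete valuation ring of that field. -/
theorem exists_dvr_dominating_hom' (hN : CAlg.IsNagata A) {L : Type u} [Field L] (φ : A →+* L) (hφ : φ.EssFiniteType)
    {a₀ : A} (ha₀ : a₀ ∈ maximalIdeal A) (hne : φ a₀ ≠ 0) :
    ∃ R : ValuationSubring L, IsDiscreteValuationRing R ∧ (∀ a, φ a ∈ R) ∧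
      (∀ a ∈ maximalIdeal A, R.valuation (φ a) < 1) ∧
      ∃ σ : Set L, σ.Finite ∧ σ ⊆ (R : Set L) ∧ Gen R (Set.range φ ∪ σ) := by
  let I : Ideal A := RingHom.ker φ
  have : I.IsPrime := RingHom.ker_isPrime φ
  let B := A ⧸ I
  have : IsLocalRing B := IsLocalRing.of_surjective' _ Ideal.Quotient.mk_surjective
  let φ' : B →+* L := Ideal.Quotient.lift I φ fun _ ha ↦ ha
  have hφ' : Function.Injective φ' := RingHom.lift_injective_of_ker_le_ideal I _ le_rfl
  algebraize [φ', φ]
  have heft : Algebra.EssFiniteType A L := hφ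
  have : FaithfulSMul B L := (faithfulSMul_iff_algebraMap_injective B L).mpr hφ'
  obtain ⟨σ, hσ⟩ := (Algebra.essFiniteType_iff A L).mp heft
  have hm : ∀ a ∈ maximalIdeal A, Ideal.Quotient.mk I a ∈ maximalIdeal B := by
    intro a ha hu
    have := IsLocalHom.of_surjective (Ideal.Quotient.mk I) Ideal.Quotient.mk_surjective
    exact (mem_maximalIdeal a).mp ha (this.map_nonunit a hu)
  have hB : ¬ IsField B := by
    intro hf
    have h := hm a₀ ha₀
    rw [isField_iff_maximalIdeal_eq.mp hf, Ideal.mem_bot, Ideal.Quotient.eq_zero_iff_mem] at h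
    exact hne h
  obtain ⟨R, hR, hBR, hRm, τ, hτ, hτR, hgen⟩ := exists_dvr_dominating_of_fg' B
    (Nagata.isNagata_of_surjective (Ideal.Quotient.mk I) Ideal.Quotient.mk_surjective hN) hB L σ σ.finite_toSet (by
    rw [eq_top_iff]
    intro z _
    set F := Subfield.closure (Set.range (algebraMap B L) ∪ (σ : Set L))
    have hsub : ∀ w ∈ Algebra.adjoin A (σ : Set L), w ∈ F := by
      intro w hw
      induction hw using Algebra.adjoin_induction with
      | mem w hw => exact Subfield.subset_closure (Or.inr hw)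
      | algebraMap r => exact Subfield.subset_closure (Or.inl ⟨Ideal.Quotient.mk I r, rfl⟩)
      | add w w' _ _ h h' => exact add_mem h h'
      | mul w w' _ _ h h' => exact mul_mem h h'
    obtain ⟨t, ht, htu, hzt⟩ := hσ z
    have := mul_mem (hsub _ hzt) (inv_mem (hsub t ht))
    rwa [mul_assoc, mul_inv_cancel₀ htu.ne_zero, mul_one] at this)
  have he : Set.range (algebraMap B L) = Set.range φ :=
    (Ideal.Quotient.mk_surjective.range_comp (algebraMap B L)).symm
  exact ⟨R, hR, fun a ↦ hBR (Ideal.Quotient.mk I a), fun a ha ↦ hRm _ (hm a ha), τ, hτ, hτR, he ▸ hgen⟩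

end Groth.Agent.ValEssFt
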